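import Cfsg.Agent.Lib.LyInvol.Main
import Cfsg.Agent.Lib.LyType.Coord

/-!
# The centraliser in the presented Lyons group as a model of the coordinates
-/

set_option autoImplicit false

namespace CfsgLib.LyType

open CfsgLib.Presentations CfsgLib.LyInvol

/-- The centraliser of the model involution in the presented group. -/
theorem coord_model : Coord tElt yLift := by
  have := LyIndex.ly_finite
  have := LyIndex.ly_simple
  obtain ⟨hcard, -, -⟩ := lifts_nonsplit (n := 11) (by norm_num) 0 1 (by decide) LyInvol.lifts
  refine ⟨LyInvol.lifts, Subgroup.eq_of_le_of_card_ge ((Subgroup.closure_le _).2 ?_)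
    (centralizer_card.trans hcard.symm).le, centralizer_card⟩
  rintro _ ⟨i, rfl⟩
  exact Subgroup.mem_centralizer_singleton_iff.2 (vElt_comm _).symm

/-- A homomorphism of the model centraliser onto the centraliser. -/
theorem Coord.exists_iota {G : Type*} [Group G] {t : G} {y : Idx11 → G} (K : Coord t y) :
    ∃ ι : Subgroup.centralizer ({tElt} : Set Cfsg.Spor.Ly) →* G, Function.Injective ι ∧
      ι.range = Subgroup.centralizer {t} ∧ (∀ i, ι ⟨yLift i, coord_model.mem i⟩ = y i) ∧
        ι ⟨tElt, Subgroup.mem_centralizer_singleton_iff.2 rfl⟩ = t := by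
  obtain ⟨e, he, het⟩ := coord_model.exists_equiv K
  refine ⟨(Subgroup.centralizer ({t} : Set G)).subtype.comp e.toMonoidHom,
    Subtype.val_injective.comp e.injective, ?_, he, het⟩
  rw [MonoidHom.range_eq_map, ← Subgroup.map_map, ← MonoidHom.range_eq_map,
    MonoidHom.range_eq_top.2 e.surjective, ← MonoidHom.range_eq_map, Subgroup.range_subtype]

end CfsgLib.LyType
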